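import Cfsg.Agent.H419.EP.Big
import Cfsg.Agent.H59.EP.UB
import Cfsg.Agent.H545.LT.SylGL
import Cfsg.Agent.H135.RK.NonAb
import Cfsg.Agent.TypeM.FactsMcL
import Cfsg.Agent.S2073

/-!
# S3499-V, the sporadic row `soc(A) = McL` (helper331)

The numerical bound (`UB1` and the three-generator form of `UB2`) gives `|Q| < 2 ^ 141`, so `|F| ≤ 3` and `n ≤ 19` by the order
bound of `Big`; but then the Sylow 5-subgroups of all sections of `GL_n(F)` are abelian (`n < 5 · 4`), those of `McL` are not.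
-/

set_option autoImplicit false

namespace Cfsg.Agent.H331.EPV

open Subgroup Cfsg Cfsg.Agent.H284 Cfsg.Agent.H419.EP Cfsg.Agent.H59.EP
open scoped MatrixGroups

theorem card_mcl : Nat.card Spor.McL = 898128000 := Cfsg.Agent.TypeM.FactsMcL.exists_mt_mcl.2.2.1

theorem simple_mcl : IsSimpleGroup Spor.McL := Cfsg.Agent.TypeM.FactsMcL.exists_mt_mcl.2.1

theorem noncomm_mcl : ¬ ∀ a b : Spor.McL, a * b = b * a := by
  intro hcomm
  have hsim : IsSimpleGroup Spor.McL := simple_mcl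
  have h4 : (Nat.card Spor.McL).Prime := by
    letI : CommGroup Spor.McL := { (inferInstance : Group Spor.McL) with mul_comm := hcomm }
    exact IsSimpleGroup.prime_card
  rw [card_mcl] at h4
  norm_num at h4

theorem card_mulAut_mcl : Nat.card (MulAut Spor.McL) ≤ 2 * 898128000 := by
  have hfin : Finite Spor.McL := Cfsg.Agent.TypeM.FactsMcL.exists_mt_mcl.1
  have hidx : (MulAut.conj : ↥Cfsg.Spor.McL →* MulAut ↥Cfsg.Spor.McL).range.index = 2 := S2073.result
  rw [← (MulAut.conj : ↥Cfsg.Spor.McL →* MulAut ↥Cfsg.Spor.McL).range.card_mul_index, hidx, mul_comm]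
  apply Nat.mul_le_mul_left
  rw [← card_mcl]
  exact Nat.card_le_card_of_surjective _ (MulAut.conj : ↥Cfsg.Spor.McL →* MulAut ↥Cfsg.Spor.McL).rangeRestrict_surjective

variable {Q : Type} [Group Q] [Finite Q] {A : Subgroup Q} {Γ : Subgroup (MulAut Q)}

theorem mcl_cardA (hsoc : HasSoc A Spor.McL) : Nat.card A = 898128000 ∨ Nat.card A = 1796256000 := by
  have hfin : Finite Spor.McL := Cfsg.Agent.TypeM.FactsMcL.exists_mt_mcl.1
  have h1 := hsoc.card_le.trans card_mulAut_mcl
  obtain ⟨k, hk⟩ := hsoc.card_dvd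
  rw [card_mcl] at hk
  have h0 : 0 < Nat.card A := Nat.card_pos
  rcases k with _ | _ | _ | k
  · omega
  · left; omega
  · right; omega
  · exfalso
    have : 898128000 * 3 ≤ 898128000 * (k + 1 + 1 + 1) := Nat.mul_le_mul_left _ (by omega)
    omega

/-- the form of `UB1`, `UB2` used here -/
def Bd (A : Subgroup Q) (l : List (ℕ × ℕ)) : Prop :=
  A.index ≤ 1 + ((l.map fun x => gal x.1 x.2).sum * (Nat.card A / 6) + Nat.card A ^ 2 / 60 + Nat.card A ^ 3 / 3600) *
    (2 * (Nat.card A / 6))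

theorem card_lt (l : List (ℕ × ℕ)) (hl : (l.map fun x => gal x.1 x.2).sum < 2 ^ 20) (hA : Nat.card A ≤ 1796256000)
    (h : Bd A l) : Nat.card Q < 2 ^ 141 := by
  have h1 : Nat.card A / 6 ≤ 299376000 := (Nat.div_le_div_right hA).trans (by norm_num)
  have h2 : Nat.card A ^ 2 / 60 ≤ 1796256000 ^ 2 / 60 := Nat.div_le_div_right (Nat.pow_le_pow_left hA 2)
  have h3 : Nat.card A ^ 3 / 3600 ≤ 1796256000 ^ 3 / 3600 := Nat.div_le_div_right (Nat.pow_le_pow_left hA 3)
  have h4 : A.index ≤ 1 + (2 ^ 20 * 299376000 + 1796256000 ^ 2 / 60 + 1796256000 ^ 3 / 3600) * (2 * 299376000) := by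
    refine le_trans h (Nat.add_le_add_left (Nat.mul_le_mul ?_ (Nat.mul_le_mul_left _ h1)) 1)
    exact Nat.add_le_add (Nat.add_le_add (Nat.mul_le_mul hl.le h1) h2) h3
  rw [← A.card_mul_index]
  calc Nat.card A * A.index ≤ 1796256000 *
      (1 + (2 ^ 20 * 299376000 + 1796256000 ^ 2 / 60 + 1796256000 ^ 3 / 3600) * (2 * 299376000)) := Nat.mul_le_mul hA h4
    _ < 2 ^ 141 := by norm_num

variable {ι : Type} [Fintype ι] [DecidableEq ι] {F : Type} [Field F] [Fintype F] {S P : Subgroup (GL ι F)}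

/-- small `n` and `q` from the order of `Q` -/
theorem small (b : Big A Γ S P) (h : Nat.card Q < 2 ^ 141) : Fintype.card F ≤ 3 ∧ Fintype.card ι < 20 := by
  have h8 : 8 * Nat.card Q < 2 ^ 144 := by
    calc 8 * Nat.card Q < 8 * 2 ^ 141 := Nat.mul_lt_mul_of_pos_left h (by norm_num)
      _ = 2 ^ 144 := by norm_num
  have hb := b.ord
  have hn := b.thirteen
  have h2 := b.two_le
  have hmono : ∀ N : ℕ, N ≤ Fintype.card ι → N * (N - 1) / 2 ≤ Fintype.card ι * (Fintype.card ι - 1) / 2 := by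
    intro N hN
    apply Nat.div_le_div_right
    exact Nat.mul_le_mul hN (by omega)
  constructor
  · by_contra hcon
    push Not at hcon
    have h3 : 4 ^ 78 ≤ Fintype.card F ^ (Fintype.card ι * (Fintype.card ι - 1) / 2) :=
      (Nat.pow_le_pow_left hcon 78).trans (Nat.pow_le_pow_right (by omega) (hmono 13 hn))
    have h4 : 4 ^ 78 < 2 ^ 144 := lt_of_le_of_lt (h3.trans hb) h8
    norm_num at h4
  · by_contra hcon
    push Not at hcon
    have h3 : 2 ^ 190 ≤ Fintype.card F ^ (Fintype.card ι * (Fintype.card ι - 1) / 2) :=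
      (Nat.pow_le_pow_left h2 190).trans (Nat.pow_le_pow_right (by omega) (hmono 20 hcon))
    have h4 : 2 ^ 190 < 2 ^ 144 := lt_of_le_of_lt (h3.trans hb) h8
    norm_num at h4

theorem ord_five {q : ℕ} (h2 : 2 ≤ q) (h3 : q ≤ 3) : orderOf (q : ZMod 5) = 4 := by
  have hf : Fact (Nat.Prime 2) := ⟨Nat.prime_two⟩
  have h4 : 4 = 2 ^ (1 + 1) := by norm_num
  rw [h4]
  rcases (show q = 2 ∨ q = 3 by omega) with rfl | rfl
  · apply orderOf_eq_prime_pow <;> decide
  · apply orderOf_eq_prime_pow <;> decide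

/-- **The row `McL`**, from the numerical bounds. -/
theorem mcl_of_bd (b : Big A Γ S P) (h : Spor.IsoMcL (socle P))
    (hbd : ∀ l : List (ℕ × ℕ), (∀ x ∈ l, x.1.Prime ∧ 0 < x.2) → (l.map Prod.fst).Nodup →
      Nat.card A = (l.map fun x => x.1 ^ x.2).prod → Bd A l) : False := by
  obtain ⟨e⟩ := id h
  have hsoc := b.hasSoc' e
  have hQ : Nat.card Q < 2 ^ 141 := by
    rcases mcl_cardA hsoc with h1 | h1
    · refine card_lt [(2, 7), (3, 6), (5, 3), (7, 1), (11, 1)] (by decide +kernel) (by rw [h1]; norm_num)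
        (hbd _ (by decide +kernel) (by decide +kernel) (by rw [h1]; decide +kernel))
    · refine card_lt [(2, 8), (3, 6), (5, 3), (7, 1), (11, 1)] (by decide +kernel) (by rw [h1])
        (hbd _ (by decide +kernel) (by decide +kernel) (by rw [h1]; decide +kernel))
  obtain ⟨h3, h20⟩ := small b hQ
  have h2 := b.two_le
  have h5 : Fact (Nat.Prime 5) := ⟨Nat.prime_five⟩
  have hfin : Finite (socle P) := by
    haveI : Finite (GL ι F) := inferInstance
    haveI : Finite P := inferInstance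
    exact Quotient.finite _
  obtain ⟨R⟩ : Nonempty (Sylow 5 (socle P)) := inferInstance
  have hc := Cfsg.Agent.H545.LT.SylGL.comm_of_hom_quot (F := F) (ι := ι) (p := 5)
    (fun hd => by have := Nat.le_of_dvd (by omega) hd; omega)
    (by rw [ord_five h2 h3]; omega) P.subtype P.subtype_injective ((Cfsg.Geo.scalars ι F).subgroupOf P) R
  obtain ⟨x, hx, y, hy, hxy⟩ := Cfsg.Agent.H135.RK.mcl5 h R
  exact hxy (congrArg Subtype.val (hc.is_comm.comm ⟨x, hx⟩ ⟨y, hy⟩))

end Cfsg.Agent.H331.EPV
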