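import Cfsg.Agent.H331.EPV.McL
import Cfsg.Agent.H59.EP.UBGen
import Cfsg.Agent.H173.EP.LineBound

/-!
# S3499-V, the sporadic row `soc(A) = McL`, final form (helper331)
-/

set_option autoImplicit false

namespace Cfsg.Agent.H331.EPV

open Subgroup Cfsg Cfsg.Agent.H284 Cfsg.Agent.H419.EP Cfsg.Agent.H59.EP
open scoped MatrixGroups

/-- the bounds `UB1`, `UB2` in the form `Bd`, for every socle -/
theorem bd_of_big (hg : TwoGen.{0}) {Q : Type} [Group Q] [Finite Q] {A : Subgroup Q} {Γ : Subgroup (MulAut Q)} {ι : Type}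
    [Fintype ι] [DecidableEq ι] {F : Type} [Field F] [Fintype F] {S P : Subgroup (GL ι F)} (b : Big A Γ S P)
    (hB : Nat.card A < 60 ^ 61) (l : List (ℕ × ℕ)) (h1 : ∀ x ∈ l, x.1.Prime ∧ 0 < x.2) (h2 : (l.map Prod.fst).Nodup)
    (hc : Nat.card A = (l.map fun x => x.1 ^ x.2).prod) : Bd A l := by
  have hab : ∀ K : Subgroup Q, K ≤ A → (∀ a ∈ A, ∀ k ∈ K, a * k * a⁻¹ ∈ K) →
      (∀ a ∈ K, ∀ b ∈ K, a * b = b * a) → K = ⊥ := fun K hK hn hab =>
    b.hasSoc.no_abelian b.core.simple (fun h => b.core.nonabelian ⟨⟨h⟩⟩) hK hn hab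
  have h3 := EPT.ncard_le_gen_dvd b.ept hg hab l h1 h2 hc.dvd (hc ▸ hB)
  have h4 := index_le_of h3 (Cfsg.Agent.H173.EP.ub1 b.simple b.ept (by norm_num) fun _ hx => EPT.six_le b.ept hab hx)
    le_rfl
  rw [← hc] at h4
  refine h4.trans (Nat.add_le_add_left (Nat.mul_le_mul_right _ (Nat.add_le_add_left ?_ _)) 1)
  exact Nat.div_le_div_left (by norm_num) (by norm_num)

/-- **Row `McL`** -/
theorem mcl (hg : TwoGen.{0}) : BigOf (fun L _ => Spor.IsoMcL L) := by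
  intro Q _ _ A Γ ι _ _ F _ _ S P b h
  obtain ⟨e⟩ := id h
  have hA : Nat.card A < 60 ^ 61 := by
    rcases mcl_cardA (b.hasSoc' e) with h1 | h1 <;> rw [h1] <;> norm_num
  exact mcl_of_bd b h (bd_of_big hg b hA)

end Cfsg.Agent.H331.EPV
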